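import Groth.Agent.Lib.ProjMor.Embed

/-!
# Maps to projective space given by sections with affine loci and enough ratios
-/

noncomputable section

universe u

open CategoryTheory CategoryTheory.Limits AlgebraicGeometry TopologicalSpace Opposite

namespace Groth.Agent.Lib.Exchange.KerSec.Immersion

open TensorMod TensorMod.Basic TensorMod.Free TensorMod.Dual TensorMod.Gen TensorMod.HomGlue TensorMod.Pullback
  Ample.GenLocus ProjMor ProjMor.Sec ProjMor.Frame ProjMor.Char ProjMor.Main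

variable {X : Scheme.{u}} {R : Type u} [CommRing R]

/-- A map given by sections is an immersion if combinations of them have affine loci and enough ratios. -/
theorem isImmersion_of_sections (q : X ⟶ Spec (CommRingCat.of R)) (M : X.Modules) (hM : PicF.IsInvertible M)
    {n : ℕ} (s : Fin (n + 1) → ProjUP.Γm M) (φ : X ⟶ CohB1.ProjSpace n R)
    (hφ : φ ≫ CohB1.ProjSpace.toSpec n R = q)
    (τ : (Scheme.Modules.pullback φ).obj (Twist.twistProjSpace n R 1) ≅ M)
    (hτ : ∀ j, τ.hom.app ⊤ (ProjUP.pullSec φ (Twist.twistProjSpace n R 1) (ProjUP.coord n R j)) = s j)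
    {κ : Type*} (t : κ → ProjUP.Γm M) (c : κ → Fin (n + 1) → R)
    (hc : ∀ k, t k = ∑ j, ProjUP.toGlobal q (c k j) • s j)
    (I : Set κ) (hcov : ∀ x, ∃ i ∈ I, x ∈ locus (t i)) (haff : ∀ i ∈ I, IsAffineOpen (locus (t i)))
    (hgen : ∀ i ∈ I, ∀ z : Γ(X, locus (t i)), z ∈ Subring.closure
      (Set.range (q.appLE ⊤ (locus (t i)) le_top).hom ∪
        {a | ∃ k, gl (t k) (locus (t i)) = a • gl (t i) (locus (t i))})) :
    IsImmersion φ := by
  classical
  let v : (ULift.{u} (Fin (n + 1)) → R) →+ ProjUP.Γm M :=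
    { toFun := fun m => ∑ i, ProjUP.toGlobal q (m ⟨i⟩) • s i
      map_zero' := by simp
      map_add' := fun a b => by simp [add_smul, Finset.sum_add_distrib] }
  have hv : ∀ k, t k = v (fun i => c k i.down) := fun k => hc k
  have hsingle : ∀ i, v (Pi.single ⟨i⟩ 1) = s i := fun i => by
    change ∑ j, ProjUP.toGlobal q ((Pi.single ⟨i⟩ 1 : ULift.{u} (Fin (n + 1)) → R) ⟨j⟩) • s j = s i
    rw [Finset.sum_eq_single i]
    · simp
    · intro j _ hj
      rw [Pi.single_eq_of_ne (fun h => hj (congrArg ULift.down h)), map_zero, zero_smul]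
    · simp
  have hadj := Poly.adjoin_lin n R
  obtain ⟨r, hr, τ', hτ'⟩ := Main.exists_map (Poly.lin_mem n R) hadj (Poly.lift_lin n R) q hM v
    (fun a m => by
      change ∑ i, ProjUP.toGlobal q ((a • m) ⟨i⟩) • s i = ProjUP.toGlobal q a • ∑ i, ProjUP.toGlobal q (m ⟨i⟩) • s i
      rw [Finset.smul_sum]
      simp [mul_smul])
    (Embed.generatedBy_of_locus v fun x => by
      obtain ⟨i, -, hx⟩ := hcov x
      exact ⟨_, by rwa [← hv i]⟩)
  have hτs : ∀ i, τ'.hom.app ⊤ (ProjUP.pullSec r (Twist.twistProjSpace n R 1) (ProjUP.coord n R i)) = s i :=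
    fun i => by
      rw [Poly.coord_eq]
      exact (hτ' _).trans (hsingle i)
  obtain rfl : φ = r := Poly.eq_of_iso n R φ r (hφ.trans hr.symm) (τ ≪≫ τ'.symm) fun i => by
    show τ'.inv.app ⊤ (τ.hom.app ⊤ _) = _
    rw [hτ, ← hτs i, ← ConcreteCategory.comp_apply, ← Scheme.Modules.Hom.comp_app, τ'.hom_inv_id]
    rfl
  let 𝒜 := CohB1.polyGrading n R
  let el : κ → 𝒜 1 := fun k => ⟨Poly.lin n R (fun i => c k i.down), Poly.lin_mem n R _⟩
  have hel : ∀ k, τ'.hom.app ⊤ (ProjUP.pullSec φ (Twist.twist 𝒜 1) (g 𝒜 (el k))) = t k := fun k =>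
    (hτ' _).trans (hv k).symm
  have hcv := Main.cover (Poly.lin_mem n R) hadj
  have hinv : PicF.IsInvertible (Twist.twist 𝒜 1) :=
    Groth.Agent.Lib.ProjTilde.Invertible.twist_isInvertible_of_cover (fun x => by
      obtain ⟨c, hc⟩ := hcv x
      exact ⟨c, c.2, hc⟩) 1
  let D : κ → (CohB1.ProjSpace n R).Opens := fun k => Proj.basicOpen 𝒜 (el k : MvPolynomial (Fin (n + 1)) R)
  have hloc : ∀ k, locus (t k) = φ ⁻¹ᵁ D k := fun k =>
    ((congrArg locus (hel k)).symm.trans ((locus_iso τ' _).trans (locus_pullback hinv φ _))).trans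
      (congrArg (φ ⁻¹ᵁ ·) (locus_g hcv (el k)))
  have hratio : ∀ i k, gl (t k) (locus (t i)) =
      φ.appLE _ (locus (t i)) (hloc i).le (fr 𝒜 (el i) (el k)) • gl (t i) (locus (t i)) := fun i k =>
    Embed.ratio_of_iso (a := el i) (b := el k) τ' (hel i) (hel k) (hloc i).le
  have hclosed : ∀ i ∈ I, IsClosedImmersion (φ ∣_ D i) := fun i hi => by
    haveI : IsAffine (D i : Scheme.{u}) := Proj.isAffineOpen_basicOpen 𝒜 _ (el i).2 one_pos
    haveI : IsAffine (φ ⁻¹ᵁ D i : Scheme.{u}) := by rw [← hloc i]; exact haff i hi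
    refine IsClosedImmersion.of_surjective_of_isAffine _ ?_
    suffices h : Function.Surjective (φ.appLE (D i) (locus (t i)) (hloc i).le) by
      have e : (φ ∣_ D i).appTop = (D i).topIso.hom ≫ φ.appLE (D i) (φ ⁻¹ᵁ D i) le_rfl ≫
          (φ ⁻¹ᵁ D i).topIso.inv := by
        rw [← Scheme.Hom.resLE_eq_morphismRestrict]
        exact Scheme.Hom.resLE_app_top _ _
      rw [e]
      refine ((ConcreteCategory.bijective_of_isIso (φ ⁻¹ᵁ D i).topIso.inv).2.comp
        (Function.Surjective.comp ?_ (ConcreteCategory.bijective_of_isIso (D i).topIso.hom).2))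
      have key : ∀ (V : X.Opens) (hV : V = locus (t i)) (hle : V ≤ φ ⁻¹ᵁ D i),
          Function.Surjective (φ.appLE (D i) V hle) := by
        rintro V rfl hle
        exact h
      exact key _ (hloc i).symm le_rfl
    intro z
    refine (Subring.closure_le (t := (φ.appLE (D i) (locus (t i)) (hloc i).le).hom.range)).2 ?_ (hgen i hi z)
    rintro a (⟨y, rfl⟩ | ⟨k, hk⟩)
    · refine ⟨(CohB1.ProjSpace.toSpec n R).appLE ⊤ (D i) le_top y, ?_⟩
      have key : ∀ (q' : X ⟶ Spec (CommRingCat.of R)) (_ : φ ≫ CohB1.ProjSpace.toSpec n R = q')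
          (hle : locus (t i) ≤ (φ ≫ CohB1.ProjSpace.toSpec n R) ⁻¹ᵁ ⊤) (hle' : locus (t i) ≤ q' ⁻¹ᵁ ⊤),
          (φ ≫ CohB1.ProjSpace.toSpec n R).appLE ⊤ (locus (t i)) hle y = q'.appLE ⊤ (locus (t i)) hle' y := by
        rintro _ rfl _ _
        rfl
      rw [← ConcreteCategory.comp_apply, Scheme.Hom.appLE_comp_appLE]
      exact key q hr le_top le_top
    · exact ⟨fr 𝒜 (el i) (el k),
        ((isGen_locus (t i) _ le_rfl).1 (by simpa only [rs_self] using hk.symm.trans (hratio i k))).symm⟩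
  let Ω : (CohB1.ProjSpace n R).Opens := ⨆ i : I, D i
  have hΩ : (⊤ : X.Opens) ≤ φ ⁻¹ᵁ Ω := fun x _ => by
    obtain ⟨i, hi, hx⟩ := hcov x
    rw [hloc] at hx
    exact Opens.mem_iSup.2 ⟨⟨i, hi⟩, hx⟩
  let k : X ⟶ (Ω : Scheme.{u}) := IsOpenImmersion.lift Ω.ι φ (by
    rw [Scheme.Opens.range_ι]
    rintro _ ⟨x, rfl⟩
    exact hΩ (Opens.mem_top x))
  have hk : k ≫ Ω.ι = φ := IsOpenImmersion.lift_fac _ _ _
  haveI : IsClosedImmersion k := by
    refine IsZariskiLocalAtTarget.of_iSup_eq_top (P := @IsClosedImmersion) (fun i : I => Ω.ι ⁻¹ᵁ D i) ?_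
      fun i => ?_
    · rw [← Scheme.Hom.preimage_iSup]
      exact top_le_iff.1 fun x _ => x.2
    · have hP : IsClosedImmersion (φ ∣_ D i) := hclosed i i.2
      rw [← hk, morphismRestrict_comp] at hP
      exact @IsClosedImmersion.of_comp _ _ _ (k ∣_ (Ω.ι ⁻¹ᵁ D i)) (Ω.ι ∣_ D i) hP inferInstance
  rw [← hk]
  infer_instance

end Groth.Agent.Lib.Exchange.KerSec.Immersion
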