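import Groth.Agent.Lib.ProjMor.VeryAmple
import Groth.Agent.Lib.QCoh.Closure
import Groth.Agent.Lib.QCoh.Pushforward
import Groth.Agent.Lib.QCoh.Pullback
import Groth.Agent.Lib.TensorMod.Integral

/-!
# Sections of high powers of an ample module vanishing on a closed subscheme
-/

set_option linter.style.haveILetI false

noncomputable section

universe u

open CategoryTheory CategoryTheory.Limits AlgebraicGeometry TopologicalSpace Opposite

namespace Groth.Agent.Lib.Exchange.KerSec.Vanish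

open TensorMod TensorMod.Basic TensorMod.Free TensorMod.Dual TensorMod.Gen TensorMod.HomGlue TensorMod.Pullback
  Ample.GenLocus Ample.Pow Ample.Extend Ample.Basis ProjMor ProjMor.Sec ProjMor.VeryAmple

variable {X Z : Scheme.{u}} (i : Z ⟶ X)

/-- The sections killed by the unit. -/
abbrev ker (M : X.Modules) : X.Modules := kernel ((pbAdj i).unit.app M)

theorem pb_ι (M : X.Modules) : (pb i).map (kernel.ι ((pbAdj i).unit.app M)) = 0 := by
  apply ((pbAdj i).homEquiv _ _).injective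
  rw [Adjunction.homEquiv_unit, Adjunction.homEquiv_unit]
  refine ((pbAdj i).unit.naturality _).symm.trans ((kernel.condition ((pbAdj i).unit.app M)).trans ?_)
  rw [Functor.map_zero, comp_zero]

theorem pb_tmap {M M' : X.Modules} (N : X.Modules) (a : M ⟶ M') (ha : (pb i).map a = 0) :
    (pb i).map (tmap a (𝟙 N)) = 0 := by
  haveI := isIso_delta i M' N
  rw [← cancel_mono (delta i M' N), delta_natural, ha, CategoryTheory.Functor.map_id, TensorMod.Integral.tmap_zero_left,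
    comp_zero, zero_comp]

theorem pullSec_app {M M' : X.Modules} (a : M ⟶ M') (ha : (pb i).map a = 0) (m : Γ(M, ⊤)) :
    ProjUP.pullSec i M' (a.app ⊤ m) = 0 :=
  (unitSec_natural i a m).trans (by rw [ha]; rfl)

theorem app_zero_of_disjoint (M : X.Modules) (O : X.Opens) (hO : Disjoint (O : Set X) (Set.range i.base))
    (m : Γ(M, O)) : ((pbAdj i).unit.app M).app O m = 0 := by
  refine sections_ext_cover (fun e : PEmpty.{1} => (e.elim : Z.Opens)) _ (V := i ⁻¹ᵁ O) (fun z hz => ?_)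
    (fun e => e.elim)
  exact (Set.disjoint_left.1 hO hz ⟨z, rfl⟩).elim

theorem exists_lift (M : X.Modules) (O : X.Opens) (hO : Disjoint (O : Set X) (Set.range i.base)) (m : Γ(M, O)) :
    ∃ a : Γ(ker i M, O), (kernel.ι ((pbAdj i).unit.app M)).app O a = m := by
  exact QCoh.Closure.sections_exact
    (S := ShortComplex.mk _ _ (kernel.condition ((pbAdj i).unit.app M)))
    (ShortComplex.exact_of_f_is_kernel _ (kernelIsKernel _)) O m (app_zero_of_disjoint i M O hO m)

theorem isQCoh_ker [IsClosedImmersion i] (M : X.Modules) [M.IsQuasicoherent] : (ker i M).IsQuasicoherent := by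
  haveI : ((pb i).obj M).IsQuasicoherent := QCoh.Pullback.isQCoh_pullback i M
  haveI : ((Scheme.Modules.pushforward i).obj ((pb i).obj M)).IsQuasicoherent :=
    QCoh.Pushforward.isQCoh_pushforward i
  exact @QCoh.Closure.isQCoh_kernel _ _ _ ‹M.IsQuasicoherent› ‹_› ((pbAdj i).unit.app M)

theorem app_tm {A A' B : X.Modules} (a : A ⟶ A') {U : X.Opens} (m : Γ(A, U)) (n : Γ(B, U)) :
    (tmap a (𝟙 B)).app U (tm A B m n) = tm A' B (a.app U m) n := by
  show (tmap a (𝟙 B)).app U (SecTwist.tmul A B U m n) = SecTwist.tmul A' B U (a.app U m) n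
  rw [← pairM_id, ← pairM_id, ← pairM_comp, Category.id_comp, pairM_tmap]
  rfl

/-- Large powers: sections vanishing on `Z` with affine loci covering the complement and enough ratios. -/
theorem eventually_exists_sections {Y : Scheme.{u}} [IsAffine Y] (q : X ⟶ Y) [LocallyOfFiniteType q]
    [QuasiSeparatedSpace X] [IsClosedImmersion i] {L : X.Modules} (hL : CohB1.IsAmple L) (U : X.Opens)
    (hUc : IsCompact (U : Set X)) (hU : Disjoint (U : Set X) (Set.range i.base)) :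
    ∃ n₀ : ℕ, ∀ n, n₀ ≤ n → ∃ (κ : Type u) (T : κ → ProjUP.Γm (CohB1.tensorPow L n)) (I : Set κ),
      (∀ k, ProjUP.pullSec i (CohB1.tensorPow L n) (T k) = 0) ∧
      (∀ a ∈ I, IsAffineOpen (locus (T a)) ∧ locus (T a) ≤ U) ∧ (∀ x ∈ U, ∃ a ∈ I, x ∈ locus (T a)) ∧
      ∀ a ∈ I, ∀ z : Γ(X, locus (T a)), z ∈ Subring.closure
        (Set.range (q.appLE ⊤ (locus (T a)) le_top).hom ∪
          {b | ∃ k, gl (T k) (locus (T a)) = b • gl (T a) (locus (T a))}) := by
  classical
  obtain ⟨hi, hc, -⟩ := Ample.Pow.isAmple_iff.1 hL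
  haveI := hc
  have h : ∀ x : U, ∃ n : ℕ, 0 < n ∧ ∃ s : Coh.structureModule X ⟶ CohB1.tensorPow L n,
      x.1 ∈ CohB1.genLocus _ s ∧ IsAffineOpen (CohB1.genLocus _ s) ∧ CohB1.genLocus _ s ≤ U ∧
        ∃ e : Γ(L, CohB1.genLocus _ s), IsGen L _ e :=
    fun x => by
    obtain ⟨W, e, hxW, he⟩ := isInvertible_iff.1 hi x.1
    obtain ⟨n, hn, s, hxs, hle, hs⟩ := exists_locus_subset hL (U := W ⊓ U) ⟨hxW, x.2⟩
    exact ⟨n, hn, s, hxs, hs, hle.trans inf_le_right, ⟨_, he.res (hle.trans inf_le_left)⟩⟩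
  choose d hd s₀ hxs hs₀ hle₀ hf₀ using h
  obtain ⟨t, ht⟩ := hUc.elim_finite_subcover (fun x => (CohB1.genLocus _ (s₀ x) : Set X))
    (fun x => (CohB1.genLocus _ (s₀ x)).isOpen) fun x hx => Set.mem_iUnion.2 ⟨⟨x, hx⟩, hxs ⟨x, hx⟩⟩
  let y : Fin t.card → U := fun a => (t.equivFin.symm a : U)
  let m := ∏ a, d (y a)
  have hm : 0 < m := Finset.prod_pos fun a _ => hd _
  let s : Fin t.card → (Coh.structureModule X ⟶ CohB1.tensorPow L m) := fun a =>
    SecTwist.powHom (s₀ (y a)) (∏ b ∈ Finset.univ.erase a, d (y b)) ≫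
      (powMul L (d (y a)) _ ≪≫ powCongr L (Finset.mul_prod_erase _ (fun b => d (y b)) (Finset.mem_univ a))).hom
  have hloc : ∀ a, CohB1.genLocus _ (s a) = CohB1.genLocus _ (s₀ (y a)) := fun a => by
    rw [genLocus_comp_iso, genLocus_powHom (Invertible.isInvertible_tensorPow hi _) _ _
      (Finset.prod_pos fun w _ => hd _)]
  let W : Fin t.card → X.Opens := fun a => CohB1.genLocus _ (s a)
  have key : ∀ (a : Fin t.card) (O : X.Opens), O = CohB1.genLocus _ (s₀ (y a)) →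
      IsAffineOpen O ∧ O ≤ U ∧ ∃ e : Γ(L, O), IsGen L _ e := by
    rintro a O rfl
    exact ⟨hs₀ _, hle₀ _, hf₀ _⟩
  have hW : ∀ a, IsAffineOpen (W a) ∧ W a ≤ U ∧ ∃ e : Γ(L, W a), IsGen L _ e := fun a => key a _ (hloc a)
  have hcov : ∀ x ∈ U, ∃ a, x ∈ W a := fun x hx => by
    obtain ⟨z, hz, hxz⟩ := Set.mem_iUnion₂.1 (ht hx)
    refine ⟨t.equivFin ⟨z, hz⟩, ?_⟩
    show x ∈ CohB1.genLocus _ (s _)
    rw [hloc, show y (t.equivFin ⟨z, hz⟩) = z from congrArg Subtype.val (t.equivFin.symm_apply_apply ⟨z, hz⟩)]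
    exact hxz
  choose gens hgens using fun a => exists_gens q (hW a).1 (isAffineOpen_top Y) (le_top : W a ≤ q ⁻¹ᵁ ⊤)
  let P := CohB1.tensorPow L m
  have hP : PicF.IsInvertible P := Invertible.isInvertible_tensorPow hi m
  let F : ℕ → X.Modules := fun e => CohB1.tensorPow L e
  have hF : ∀ e, PicF.IsInvertible (F e) := fun e => Invertible.isInvertible_tensorPow hi e
  have hframe : ∀ e a, ∃ f : Γ(F e, W a), IsGen (F e) _ f := fun e a => by
    obtain ⟨b, hb⟩ := (hW a).2.2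
    exact ⟨_, isGen_powSec hb e⟩
  choose f hf using hframe
  let Idx : Type u := Σ a : ULift.{u} (Fin t.card), Option (gens a.down)
  let z : ∀ k : Idx, Γ(X, W k.1.down) := fun k => k.2.elim 1 (fun b => b.1)
  have hlift : ∀ (e : ℕ) (k : Idx), ∃ w : Γ(ker i (F e), W k.1.down),
      (kernel.ι ((pbAdj i).unit.app (F e))).app (W k.1.down) w = z k • f e k.1.down := fun e k =>
    exists_lift i (F e) _ (hU.mono_left (hW k.1.down).2.1) _
  choose w hw using hlift
  have hext : ∀ᶠ c in Filter.atTop, ∀ (e : Fin m) (k : Idx),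
      ∃ t' : Γ(CohB1.tensorMod (ker i (F e)) (CohB1.tensorPow P c), ⊤),
        gl t' (W k.1.down) = tw (s k.1.down) c (w e k) := by
    refine Filter.eventually_all.2 fun e => Filter.eventually_all.2 fun k => ?_
    haveI := QCohInv.isQCoh_of_isInvertible (hF e)
    haveI := isQCoh_ker i (F e)
    exact eventually_extension hP (s k.1.down) _
  obtain ⟨c₀, hc₀⟩ := Filter.eventually_atTop.1 hext
  refine ⟨m * (c₀ + 1), fun n hn => ?_⟩
  obtain ⟨c, e, hce, rfl⟩ : ∃ (c : ℕ) (e : Fin m), c₀ ≤ c ∧ n = e + m * (c + 1) := by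
    have h1 : c₀ + 1 ≤ n / m := (Nat.le_div_iff_mul_le hm).2 (by rw [Nat.mul_comm]; exact hn)
    obtain ⟨c, hc⟩ : ∃ c, n / m = c + 1 := ⟨n / m - 1, by omega⟩
    exact ⟨c, ⟨n % m, Nat.mod_lt n hm⟩, by omega, by rw [← hc]; exact (Nat.mod_add_div n m).symm⟩
  choose t' ht' using hc₀ c hce e
  let M := CohB1.tensorMod (CohB1.tensorMod (F e) (CohB1.tensorPow P c)) P
  let φ : M ≅ CohB1.tensorPow L (e + m * (c + 1)) :=
    Basic.assoc _ _ _ ≪≫
      tensorIso (Iso.refl _) (show CohB1.tensorMod (CohB1.tensorPow P c) P ≅ _ from powMul L m (c + 1)) ≪≫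
      (powAdd L e (m * (c + 1))).symm
  let η : CohB1.tensorMod (ker i (F e)) (CohB1.tensorPow P c) ⟶ CohB1.tensorMod (F e) (CohB1.tensorPow P c) :=
    tmap (kernel.ι _) (𝟙 _)
  let σ : ∀ a, Γ(P, ⊤) := fun a => sv (s a) ⊤
  let T : Idx → ProjUP.Γm M := fun k => tm _ P (η.app ⊤ (t' k)) (σ k.1.down)
  let G : ∀ a, Γ(M, W a) := fun a =>
    tm _ P (tm (F e) _ (f e a) (powSec (sv (s a) (W a)) c)) (sv (s a) (W a))
  have hG : ∀ a, IsGen M (W a) (G a) := fun a =>
    isGen_tmul (isGen_tmul (hf e a) (isGen_powSec (isGen_genLocus (s a)) c)) (isGen_genLocus (s a))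
  have hT : ∀ k : Idx, gl (T k) (W k.1.down) = z k • G k.1.down := fun k => by
    rw [gl_tmul, ← app_gl, ht', twist_eq (a := 1) (e := sv (s k.1.down) (W k.1.down)) (one_smul _ _).symm,
      one_pow, one_smul, app_tm, hw]
    simp only [σ, G, W, gl, rs_sv, ← pairM_id, pairM_smul_left]
  have hvan : ∀ k : Idx, ProjUP.pullSec i _ (φ.hom.app ⊤ (T k)) = 0 := fun k => by
    have e1 : φ.hom.app ⊤ (T k) = (tmap η (𝟙 P) ≫ φ.hom).app ⊤ (tm _ P (t' k) (σ k.1.down)) := by
      rw [Scheme.Modules.Hom.comp_app, ConcreteCategory.comp_apply, app_tm]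
    rw [e1]
    exact pullSec_app i _ (by
      rw [Functor.map_comp, pb_tmap i P η (pb_tmap i _ _ (pb_ι i _)), zero_comp]) _
  have hloc1 : ∀ a : Fin t.card, locus (T ⟨⟨a⟩, none⟩) = W a := fun a => by
    refine le_antisymm ?_ (le_locus ?_)
    · rw [locus_tmul (Invertible.isInvertible_tensorMod (hF e) (Invertible.isInvertible_tensorPow hP c)) hP]
      refine inf_le_right.trans (le_of_eq ?_)
      exact congrArg (CohB1.genLocus P) (Modules.Free.unitHom_ext (Modules.Free.unitHom_app_one P (σ a)))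
    · rw [hT]
      simpa [z] using hG a
  let T' : Idx → ProjUP.Γm (CohB1.tensorPow L (e + m * (c + 1))) := fun k => φ.hom.app ⊤ (T k)
  have hlt : ∀ a : Fin t.card, locus (T' ⟨⟨a⟩, none⟩) = W a := fun a => (locus_iso φ _).trans (hloc1 a)
  refine ⟨Idx, T', Set.range fun a : Fin t.card => (⟨⟨a⟩, none⟩ : Idx), hvan, ?_, fun x hx => ?_, ?_⟩
  · rintro _ ⟨a, rfl⟩
    rw [hlt a]
    exact ⟨(hW a).1, (hW a).2.1⟩
  · obtain ⟨a, hxa⟩ := hcov x hx
    exact ⟨_, ⟨a, rfl⟩, (hlt a).ge hxa⟩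
  · rintro _ ⟨a, rfl⟩
    have key : ∀ (O : X.Opens), O = W a → ∀ w : Γ(X, O),
        w ∈ Subring.closure (Set.range (q.appLE ⊤ O le_top).hom ∪
          {b | ∃ k, gl (T' k) O = b • gl (T' (⟨⟨a⟩, none⟩ : Idx)) O}) := by
      rintro O rfl w
      have hsub : (gens a : Set Γ(X, W a)) ⊆
          {b | ∃ k, gl (T' k) (W a) = b • gl (T' (⟨⟨a⟩, none⟩ : Idx)) (W a)} := fun b hb => by
        refine ⟨⟨⟨a⟩, some ⟨b, hb⟩⟩, ?_⟩
        have e1 := hT ⟨⟨a⟩, some ⟨b, hb⟩⟩
        have e0 := hT ⟨⟨a⟩, none⟩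
        simp only [z, Option.elim_none, Option.elim_some, one_smul] at e0 e1
        simp only [T', ← app_gl]
        rw [e0, e1, Scheme.Modules.Hom.app_smul]
      exact Subring.closure_mono (Set.union_subset_union_right _ hsub) (hgens a w)
    exact key _ (hlt a)

end Groth.Agent.Lib.Exchange.KerSec.Vanish
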